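/-
Stabilisers of coordinate subspaces in general linear groups: membership, moving elements, maximality, order,
the transpose-inverse isomorphism, and triangular matrices.
-/
import Mathlib
import Cfsg.Prelude.Def_ClassicalGeometry

set_option autoImplicit false

namespace CfsgLib.GLStab

open Cfsg Matrix

variable {F : Type*} [Field F] {n k : ℕ}

/-- The span of the first `k` coordinate vectors. -/
def coordW (F : Type*) [Field F] (n k : ℕ) : Submodule F (Fin n → F) where
  carrier := {v | ∀ i : Fin n, k ≤ (i : ℕ) → v i = 0}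
  add_mem' {u v} hu hv i hi := by simp [hu i hi, hv i hi]
  zero_mem' _ _ := rfl
  smul_mem' c v hv i hi := by simp [hv i hi]

theorem mem_coordW {v : Fin n → F} : v ∈ coordW F n k ↔ ∀ i : Fin n, k ≤ (i : ℕ) → v i = 0 := Iff.rfl

/-- The stabiliser of the span of the first `k` coordinate vectors, as in the statements. -/
abbrev stab (F : Type*) [Field F] (n k : ℕ) : Subgroup (GeneralLinearGroup (Fin n) F) :=
  Cfsg.stabilizing (Cfsg.glToMat (Fin n) F) {v : Fin n → F | ∀ i : Fin n, k ≤ (i : ℕ) → v i = 0}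

theorem finrank_coordW (hk : k ≤ n) : Module.finrank F (coordW F n k) = k := by
  let e : coordW F n k ≃ₗ[F] (Fin k → F) :=
    { toFun := fun v i => v.1 (Fin.castLE hk i)
      map_add' := fun _ _ => rfl
      map_smul' := fun _ _ => rfl
      invFun := fun v => ⟨fun i => if h : (i : ℕ) < k then v ⟨i, h⟩ else 0, fun i hi => by simp [not_lt.mpr hi]⟩
      left_inv := fun v => Subtype.ext (funext fun i => by
        by_cases h : (i : ℕ) < k
        · simp [h]
        · simp [h, v.2 i (not_lt.mp h)])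
      right_inv := fun v => funext fun i => by simp }
  rw [e.finrank_eq, Module.finrank_fin_fun]

theorem mem_stab_of_subset {g : GeneralLinearGroup (Fin n) F}
    (h : ∀ v ∈ coordW F n k, g.1 *ᵥ v ∈ coordW F n k) : g ∈ stab F n k := by
  have hinj : Function.Injective (Matrix.toLin' g.1) := Matrix.mulVec_injective_iff_isUnit.mpr g.isUnit
  have heq : (coordW F n k).map (Matrix.toLin' g.1) = coordW F n k :=
    Submodule.eq_of_le_of_finrank_eq (Submodule.map_le_iff_le_comap.mpr fun v hv => by simpa using h v hv)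
      ((Submodule.equivMapOfInjective _ hinj _).finrank_eq.symm)
  intro v
  refine ⟨h v, fun hv => ?_⟩
  have hv' : Matrix.toLin' g.1 v ∈ coordW F n k := hv
  rw [← heq] at hv'
  obtain ⟨u, hu, huv⟩ := hv'
  rw [← hinj huv]
  exact hu

theorem mem_stab_iff {g : GeneralLinearGroup (Fin n) F} :
    g ∈ stab F n k ↔ ∀ i j : Fin n, k ≤ (i : ℕ) → (j : ℕ) < k → g.1 i j = 0 := by
  constructor
  · intro h i j hi hj
    have := (h (Pi.single j 1)).mp (fun l hl => Pi.single_eq_of_ne (by intro e; subst e; omega) _) i hi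
    simpa using this
  · intro h
    refine mem_stab_of_subset fun v hv i hi => ?_
    simp only [mulVec, dotProduct]
    refine Finset.sum_eq_zero fun j _ => ?_
    by_cases hj : (j : ℕ) < k
    · rw [h i j hi hj, zero_mul]
    · rw [hv j (not_lt.mp hj), mul_zero]

/-- The invertible map `x ↦ x + φ(x) v`, for `1 + φ(v) ≠ 0`. -/
def dil (v φ : Fin n → F) (h : 1 + φ ⬝ᵥ v ≠ 0) : GeneralLinearGroup (Fin n) F where
  val := 1 + vecMulVec v φ
  inv := 1 - (1 + φ ⬝ᵥ v)⁻¹ • vecMulVec v φ
  val_inv := by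
    simp only [mul_sub, add_mul, one_mul, mul_one, mul_smul_comm, vecMulVec_mul_vecMulVec, smul_add,
      vecMulVec_smul, smul_smul]
    match_scalars <;> field_simp <;> ring
  inv_val := by
    simp only [sub_mul, mul_add, one_mul, mul_one, smul_mul_assoc, vecMulVec_mul_vecMulVec, smul_add,
      vecMulVec_smul, smul_smul]
    match_scalars <;> field_simp <;> ring

theorem dil_mulVec (v φ : Fin n → F) (h : 1 + φ ⬝ᵥ v ≠ 0) (x : Fin n → F) :
    (dil v φ h).1 *ᵥ x = x + (φ ⬝ᵥ x) • v := by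
  show (1 + vecMulVec v φ) *ᵥ x = _
  rw [add_mulVec, one_mulVec, vecMulVec_mulVec, op_smul_eq_smul]

theorem dil_mem_stab_of_vec {v φ : Fin n → F} (h : 1 + φ ⬝ᵥ v ≠ 0) (hv : v ∈ coordW F n k) :
    dil v φ h ∈ stab F n k :=
  mem_stab_of_subset fun x hx => by
    rw [dil_mulVec]
    exact add_mem hx (Submodule.smul_mem _ _ hv)

theorem dil_mem_stab_of_functional {v φ : Fin n → F} (h : 1 + φ ⬝ᵥ v ≠ 0)
    (hφ : ∀ x ∈ coordW F n k, φ ⬝ᵥ x = 0) : dil v φ h ∈ stab F n k :=
  mem_stab_of_subset fun x hx => by rwa [dil_mulVec, hφ x hx, zero_smul, add_zero]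

/-- A functional non-zero on two given vectors, built from two coordinates. -/
theorem exists_functional (u u' : Fin n → F) (s : Fin n → Prop) (hu : ∃ i, s i ∧ u i ≠ 0)
    (hu' : ∃ i, s i ∧ u' i ≠ 0) :
    ∃ φ : Fin n → F, (∀ i, ¬ s i → φ i = 0) ∧ φ ⬝ᵥ u = 1 ∧ φ ⬝ᵥ u' ≠ 0 := by
  obtain ⟨i, hi, hiu⟩ := hu
  obtain ⟨j, hj, hju⟩ := hu'
  have scale : ∀ ψ : Fin n → F, (∀ l, ¬ s l → ψ l = 0) → ψ ⬝ᵥ u ≠ 0 → ψ ⬝ᵥ u' ≠ 0 →
      ∃ φ : Fin n → F, (∀ l, ¬ s l → φ l = 0) ∧ φ ⬝ᵥ u = 1 ∧ φ ⬝ᵥ u' ≠ 0 := fun ψ h0 h1 h2 =>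
    ⟨(ψ ⬝ᵥ u)⁻¹ • ψ, fun l hl => by simp [h0 l hl], by simp [smul_dotProduct, h1],
      by simp [smul_dotProduct, h1, h2]⟩
  have hsupp : ∀ t : Fin n, s t → ∀ l, ¬ s l → (Pi.single t (1 : F) : Fin n → F) l = 0 :=
    fun t ht l hl => Pi.single_eq_of_ne (by intro e; exact hl (e ▸ ht)) _
  by_cases h1 : u' i = 0
  · by_cases h2 : u j = 0
    · exact scale (Pi.single i 1 + Pi.single j 1)
        (fun l hl => by simp [hsupp i hi l hl, hsupp j hj l hl])
        (by simp [add_dotProduct, h2, hiu]) (by simp [add_dotProduct, h1, hju])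
    · exact scale (Pi.single j 1) (hsupp j hj) (by simpa using h2) (by simpa using hju)
  · exact scale (Pi.single i 1) (hsupp i hi) (by simpa using hiu) (by simpa using h1)

theorem exists_move_out {u u' : Fin n → F} (hu : u ∉ coordW F n k) (hu' : u' ∉ coordW F n k) :
    ∃ g ∈ stab F n k, g.1 *ᵥ u = u' := by
  simp only [mem_coordW, not_forall, exists_prop] at hu hu'
  obtain ⟨φ, hφ0, hφu, hφu'⟩ := exists_functional u u' (fun i => k ≤ (i : ℕ)) hu hu'
  have hd : 1 + φ ⬝ᵥ (u' - u) ≠ 0 := by rw [dotProduct_sub, hφu]; simpa using hφu'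
  refine ⟨dil (u' - u) φ hd, dil_mem_stab_of_functional hd fun x hx => ?_, ?_⟩
  · simp only [dotProduct]
    refine Finset.sum_eq_zero fun i _ => ?_
    by_cases hi : k ≤ (i : ℕ)
    · rw [hx i hi, mul_zero]
    · rw [hφ0 i hi, zero_mul]
  · rw [dil_mulVec, hφu, one_smul, add_sub_cancel]

theorem exists_move_in {u u' : Fin n → F} (hu : u ∈ coordW F n k) (hu' : u' ∈ coordW F n k) (h : u ≠ 0)
    (h' : u' ≠ 0) : ∃ g ∈ stab F n k, g.1 *ᵥ u = u' := by
  obtain ⟨i, hi⟩ := Function.ne_iff.mp h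
  obtain ⟨j, hj⟩ := Function.ne_iff.mp h'
  obtain ⟨φ, -, hφu, hφu'⟩ :=
    exists_functional u u' (fun _ => True) ⟨i, trivial, hi⟩ ⟨j, trivial, hj⟩
  have hd : 1 + φ ⬝ᵥ (u' - u) ≠ 0 := by rw [dotProduct_sub, hφu]; simpa using hφu'
  exact ⟨dil (u' - u) φ hd, dil_mem_stab_of_vec hd (sub_mem hu' hu),
    by rw [dil_mulVec, hφu, one_smul, add_sub_cancel]⟩

/-- The invariant subspaces of the stabiliser. -/
theorem invariant_eq {U : Submodule F (Fin n → F)} (hU : ∀ g ∈ stab F n k, ∀ u ∈ U, g.1 *ᵥ u ∈ U)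
    (h0 : U ≠ ⊥) (h1 : U ≠ ⊤) : U = coordW F n k := by
  have hle : U ≤ coordW F n k := by
    intro u hu
    by_contra hout
    have hall : ∀ x, x ∉ coordW F n k → x ∈ U := fun x hx => by
      obtain ⟨g, hg, hgu⟩ := exists_move_out hout hx
      exact hgu ▸ hU g hg u hu
    refine h1 (eq_top_iff.mpr fun x _ => ?_)
    by_cases hx : x ∈ coordW F n k
    · have hxu : x + u ∉ coordW F n k := fun h => hout (by simpa using sub_mem h hx)
      simpa using sub_mem (hall _ hxu) hu
    · exact hall x hx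
  refine le_antisymm hle fun w hw => ?_
  obtain ⟨u, hu, hu0⟩ := (Submodule.ne_bot_iff _).mp h0
  by_cases hw0 : w = 0
  · rw [hw0]; exact zero_mem _
  obtain ⟨g, hg, hgu⟩ := exists_move_in (hle hu) hw hu0 hw0
  exact hgu ▸ hU g hg u hu

/-- The stabiliser is a maximal subgroup. -/
theorem stab_isCoatom (hk0 : 0 < k) (hkn : k < n) : IsCoatom (stab F n k) := by
  have hlast : Fin n := ⟨k, hkn⟩
  refine ⟨fun htop => ?_, fun H hH => ?_⟩
  · let a : Fin n := ⟨k, hkn⟩
    let b : Fin n := ⟨0, by omega⟩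
    have hd : 1 + (Pi.single b (1 : F) : Fin n → F) ⬝ᵥ Pi.single a 1 ≠ 0 := by
      simp [a, b, Pi.single_apply, Fin.ext_iff, hk0.ne]
    have hmem : dil _ _ hd ∈ stab F n k := by rw [htop]; trivial
    have := mem_stab_iff.mp hmem a b (le_refl _) hk0
    simp [dil, vecMulVec_apply, a, b, Fin.ext_iff, hk0.ne'] at this
  · obtain ⟨g, hgH, hg⟩ := SetLike.exists_of_lt hH
    obtain ⟨v, hv, hgv⟩ : ∃ v ∈ coordW F n k, g.1 *ᵥ v ∉ coordW F n k := by
      by_contra h; push Not at h; exact hg (mem_stab_of_subset h)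
    have htrans : ∀ (a b : Fin n), a ≠ b → ∀ c : F, ∀ h : 1 + (c • Pi.single b 1 : Fin n → F) ⬝ᵥ Pi.single a 1 ≠ 0,
        dil (Pi.single a 1) (c • Pi.single b 1) h ∈ H := by
      intro a b hab c hd
      by_cases ha : (a : ℕ) < k
      · exact hH.le (dil_mem_stab_of_vec hd fun i hi => Pi.single_eq_of_ne (by intro e; subst e; omega) _)
      have hout : (Pi.single a (1 : F) : Fin n → F) ∉ coordW F n k := fun h => by
        simpa using h a (not_lt.mp ha)
      obtain ⟨p, hp, hpe⟩ := exists_move_out hgv hout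
      set φ : Fin n → F := c • Pi.single b 1
      have hhv : (p * g).1 *ᵥ v = Pi.single a 1 := by rw [Units.val_mul, ← mulVec_mulVec, hpe]
      have hd' : 1 + (φ ᵥ* (p * g).1) ⬝ᵥ v ≠ 0 := by rwa [← dotProduct_mulVec, hhv]
      have hval : dil (Pi.single a 1) φ hd = (p * g) * dil v (φ ᵥ* (p * g).1) hd' * (p * g)⁻¹ := by
        rw [eq_mul_inv_iff_mul_eq]
        refine Units.ext (Matrix.ext_of_mulVec_single fun j => ?_)
        rw [Units.val_mul, Units.val_mul (p * g), ← mulVec_mulVec, ← mulVec_mulVec, dil_mulVec, dil_mulVec,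
          mulVec_add, mulVec_smul, hhv, ← dotProduct_mulVec]
      rw [hval]
      exact mul_mem (mul_mem (mul_mem (hH.le hp) hgH) (hH.le (dil_mem_stab_of_vec hd' hv)))
        (inv_mem (mul_mem (hH.le hp) hgH))
    rw [eq_top_iff]
    intro A _
    have key : ∀ M : Matrix (Fin n) (Fin n) F, M.det ≠ 0 →
        ∀ B : GeneralLinearGroup (Fin n) F, B.1 = M → B ∈ H := by
      intro M hM
      refine diagonal_transvection_induction_of_det_ne_zero
        (fun M => ∀ B : GeneralLinearGroup (Fin n) F, B.1 = M → B ∈ H) M hM ?_ ?_ ?_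
      · intro D _ B hB
        refine hH.le (mem_stab_iff.mpr fun i j hi hj => ?_)
        rw [hB, diagonal_apply_ne]
        intro e; subst e; omega
      · rintro ⟨a, b, hab, c⟩ B hB
        have hd : 1 + (c • Pi.single b 1 : Fin n → F) ⬝ᵥ Pi.single a 1 ≠ 0 := by
          simp [smul_dotProduct, Pi.single_apply, Ne.symm hab]
        have hBe : B = dil (Pi.single a 1) (c • Pi.single b 1) hd := Units.ext <| by
          rw [hB]
          show Matrix.transvection a b c = 1 + vecMulVec _ _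
          ext i j
          simp only [Matrix.transvection, Matrix.add_apply, vecMulVec_apply, Matrix.single_apply,
            Pi.single_apply, Pi.smul_apply, smul_eq_mul]
          congr 1
          by_cases h1 : i = a <;> by_cases h2 : j = b <;> simp [h1, h2, Ne.symm]
        rw [hBe]; exact htrans a b hab c hd
      · intro X Y hX hY ihX ihY B hB
        have : B = GeneralLinearGroup.mkOfDetNeZero X hX * GeneralLinearGroup.mkOfDetNeZero Y hY :=
          Units.ext hB
        rw [this]; exact mul_mem (ihX _ rfl) (ihY _ rfl)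
    exact key A.1 ((Matrix.isUnit_iff_isUnit_det _).mp A.isUnit).ne_zero A rfl

/-- Transpose-inverse followed by reversing the coordinates. -/
def dualRev (n : ℕ) (F : Type*) [Field F] :
    GeneralLinearGroup (Fin n) F ≃* GeneralLinearGroup (Fin n) F where
  toFun g := ⟨((g⁻¹).1ᵀ).submatrix Fin.revPerm Fin.revPerm, (g.1ᵀ).submatrix Fin.revPerm Fin.revPerm,
    by rw [submatrix_mul_equiv, ← transpose_mul, ← Units.val_mul, mul_inv_cancel, Units.val_one,
      transpose_one, submatrix_one_equiv],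
    by rw [submatrix_mul_equiv, ← transpose_mul, ← Units.val_mul, inv_mul_cancel, Units.val_one,
      transpose_one, submatrix_one_equiv]⟩
  invFun g := ⟨((g⁻¹).1ᵀ).submatrix Fin.revPerm Fin.revPerm, (g.1ᵀ).submatrix Fin.revPerm Fin.revPerm,
    by rw [submatrix_mul_equiv, ← transpose_mul, ← Units.val_mul, mul_inv_cancel, Units.val_one,
      transpose_one, submatrix_one_equiv],
    by rw [submatrix_mul_equiv, ← transpose_mul, ← Units.val_mul, inv_mul_cancel, Units.val_one,
      transpose_one, submatrix_one_equiv]⟩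
  left_inv g := Units.ext (by ext i j; simp [Fin.rev_rev])
  right_inv g := Units.ext (by ext i j; simp [Fin.rev_rev])
  map_mul' a b := Units.ext (by
    simp only [_root_.mul_inv_rev, Units.val_mul]
    rw [transpose_mul, submatrix_mul_equiv])

theorem dualRev_mem {g : GeneralLinearGroup (Fin n) F} (hkn : k ≤ n) (hg : g ∈ stab F n k) :
    dualRev n F g ∈ stab F n (n - k) := by
  rw [mem_stab_iff]
  intro i j hi hj
  refine mem_stab_iff.mp (inv_mem hg) (Fin.rev j) (Fin.rev i) ?_ ?_ <;> simp [Fin.val_rev] <;> omega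

/-- The stabilisers in complementary dimensions are isomorphic. -/
noncomputable def stabEquiv (hkn : k ≤ n) : stab F n k ≃* stab F n (n - k) where
  toFun g := ⟨dualRev n F g.1, dualRev_mem hkn g.2⟩
  invFun g := ⟨(dualRev n F).symm g.1, by
    have h := dualRev_mem (n.sub_le k) g.2
    rw [Nat.sub_sub_self hkn] at h
    exact h⟩
  left_inv g := Subtype.ext ((dualRev n F).symm_apply_apply _)
  right_inv g := Subtype.ext ((dualRev n F).apply_symm_apply _)
  map_mul' a b := Subtype.ext ((dualRev n F).map_mul _ _)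

section Finite

variable [Fintype F] {q : ℕ}

theorem card_matrix (hF : Fintype.card F = q) (a b : ℕ) :
    Nat.card (Matrix (Fin a) (Fin b) F) = q ^ (a * b) := by
  rw [Nat.card_eq_fintype_card, ← hF]
  show Fintype.card (Fin a → Fin b → F) = _
  rw [Fintype.card_fun, Fintype.card_fun, Fintype.card_fin, Fintype.card_fin, ← pow_mul, mul_comm]

theorem card_GL (hF : Fintype.card F = q) (a : ℕ) :
    Nat.card (GeneralLinearGroup (Fin a) F) = ∏ i : Fin a, (q ^ a - q ^ (i : ℕ)) := by
  rw [Matrix.card_GL_field, hF]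

/-- The order of the stabiliser. -/
theorem card_stab (hF : Fintype.card F = q) (hk : k ≤ n) :
    Nat.card (stab F n k) = q ^ (k * (n - k)) * (∏ i : Fin k, (q ^ k - q ^ (i : ℕ)))
      * ∏ i : Fin (n - k), (q ^ (n - k) - q ^ (i : ℕ)) := by
  classical
  let e : Fin k ⊕ Fin (n - k) ≃ Fin n := finSumFinEquiv.trans (finCongr (Nat.add_sub_cancel' hk))
  have he : ∀ i, (k ≤ (e i : ℕ) ↔ ∃ j, i = Sum.inr j) := by
    rintro (i | i)
    · simp [e]
    · simp [e]
  let f : GeneralLinearGroup (Fin k) F × GeneralLinearGroup (Fin (n - k)) F × Matrix (Fin k) (Fin (n - k)) F →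
      stab F n k := fun p =>
    ⟨GeneralLinearGroup.mkOfDetNeZero ((fromBlocks p.1.1 p.2.2 0 p.2.1.1).submatrix e.symm e.symm) (by
      rw [det_submatrix_equiv_self, det_fromBlocks_zero₂₁]
      exact mul_ne_zero ((Matrix.isUnit_iff_isUnit_det _).mp p.1.isUnit).ne_zero
        ((Matrix.isUnit_iff_isUnit_det _).mp p.2.1.isUnit).ne_zero), mem_stab_iff.mpr fun i j hi hj => by
        show (fromBlocks p.1.1 p.2.2 0 p.2.1.1) (e.symm i) (e.symm j) = 0
        obtain ⟨i', hi'⟩ := (he (e.symm i)).mp (by simpa using hi)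
        rcases hj' : e.symm j with j' | j'
        · simp [hi']
        · have := (he (e.symm j)).mpr ⟨j', hj'⟩
          simp at this; omega⟩
  have hf : Function.Bijective f := by
    constructor
    · rintro ⟨A, D, B⟩ ⟨A', D', B'⟩ h
      have h2 := congrArg (fun g : stab F n k => g.1.1.submatrix e e) h
      simp only [f] at h2
      obtain ⟨h3, h4, -, h5⟩ := fromBlocks_inj.mp (show fromBlocks A.1 B 0 D.1 = fromBlocks A'.1 B' 0 D'.1 by
        simpa [submatrix_submatrix] using h2)
      rw [Units.ext h3, Units.ext h5, h4]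
    · intro g
      let M := g.1.1.submatrix e e
      have h21 : M.toBlocks₂₁ = 0 := by
        ext i j
        refine mem_stab_iff.mp g.2 _ _ ((he _).mpr ⟨i, rfl⟩) ?_
        by_contra hlt
        obtain ⟨j', hj'⟩ := (he _).mp (not_lt.mp hlt)
        simp at hj'
      have hdet : M.det ≠ 0 := by
        rw [det_submatrix_equiv_self]; exact ((Matrix.isUnit_iff_isUnit_det _).mp g.1.isUnit).ne_zero
      rw [← fromBlocks_toBlocks M, h21, det_fromBlocks_zero₂₁, mul_ne_zero_iff] at hdet
      refine ⟨⟨GeneralLinearGroup.mkOfDetNeZero _ hdet.1, GeneralLinearGroup.mkOfDetNeZero _ hdet.2,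
        M.toBlocks₁₂⟩, Subtype.ext (Units.ext ?_)⟩
      show (fromBlocks M.toBlocks₁₁ M.toBlocks₁₂ 0 M.toBlocks₂₂).submatrix e.symm e.symm = g.1.1
      rw [← h21, fromBlocks_toBlocks]
      ext i j; simp [M]
  rw [← Nat.card_congr (Equiv.ofBijective f hf), Nat.card_prod, Nat.card_prod, card_GL hF, card_GL hF,
    card_matrix hF]
  ring

/-- Upper triangular matrices with non-zero diagonal. -/
theorem card_triangular (hF : Fintype.card F = q) (n : ℕ) :
    Nat.card {M : Matrix (Fin n) (Fin n) F // (∀ i j, j < i → M i j = 0) ∧ ∀ i, M i i ≠ 0}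
      = q ^ (n * (n - 1) / 2) * (q - 1) ^ n := by
  classical
  let e : {M : Matrix (Fin n) (Fin n) F // (∀ i j, j < i → M i j = 0) ∧ ∀ i, M i i ≠ 0} ≃
      (Fin n → {a : F // a ≠ 0}) × ((Σ j : Fin n, Fin j) → F) :=
    { toFun := fun M => (fun i => ⟨M.1 i i, M.2.2 i⟩, fun p => M.1 (Fin.castLE p.1.isLt.le p.2) p.1)
      invFun := fun p => ⟨fun i j => if h : (i : ℕ) < j then p.2 ⟨j, ⟨i, h⟩⟩ else if i = j then (p.1 i).1 else 0,
        fun i j hji => by
          have h1 : ¬ (i : ℕ) < j := not_lt.mpr (le_of_lt hji)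
          simp [h1, ne_of_gt hji],
        fun i => by simp [(p.1 i).2]⟩
      left_inv := fun M => by
        apply Subtype.ext; ext i j
        by_cases h : (i : ℕ) < j
        · simp [h]
        · by_cases hij : i = j
          · subst hij; simp
          · simp [h, hij, M.2.1 i j (lt_of_le_of_ne (not_lt.mp h) (Ne.symm hij))]
      right_inv := fun p => by
        ext x
        · simp
        · simp }
  rw [Nat.card_congr e, Nat.card_prod, Nat.card_fun, Nat.card_fun]
  simp only [Nat.card_eq_fintype_card, Fintype.card_sigma, Fintype.card_fin, Fintype.card_subtype_compl,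
    Fintype.card_subtype_eq, hF]
  rw [Fin.sum_univ_eq_sum_range (fun i => i), Finset.sum_range_id, mul_comm]

end Finite

end CfsgLib.GLStab
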